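import Groth.Prelude.Def_EGA4b
import Groth.Agent.Lib.CMBasics.DimIneq
import Groth.Agent.Lib.HLVT.Conn
import Groth.Agent.Lib.QuasiFlat.Basic
import Groth.Agent.Lib.FlatModel.Descent
import Groth.Agent.Lib.FibPd.Depth

/-!
# The dimension formula for a local homomorphism without components over the closed point
-/

set_option autoImplicit false
set_option linter.style.haveILetI false
universe u

open IsLocalRing TensorProduct

namespace GrothLib.FibDimFormula

/-- Cutting by an element outside all minimal primes lowers the dimension. -/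
theorem ringKrullDim_quotient_add_one_le {R : Type u} [CommRing R] (I J : Ideal R) (hIJ : I ≤ J) (x : R) (hxJ : x ∈ J)
    (hx : ∀ p ∈ I.minimalPrimes, x ∉ p) : ringKrullDim (R ⧸ J) + 1 ≤ ringKrullDim (R ⧸ I) := by
  rw [ringKrullDim_quotient, ringKrullDim_quotient]
  by_cases he : IsEmpty (PrimeSpectrum.zeroLocus (J : Set R))
  · rw [Order.krullDim_eq_bot, WithBot.bot_add]; exact bot_le
  rw [not_isEmpty_iff] at he
  haveI : Nonempty (PrimeSpectrum.zeroLocus (I : Set R)) := ⟨⟨he.some.1, fun a ha => he.some.2 (hIJ ha)⟩⟩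
  rw [Order.krullDim_eq_iSup_length, Order.krullDim_eq_iSup_length, ← WithBot.coe_one, ← WithBot.coe_add,
    WithBot.coe_le_coe, ENat.iSup_add]
  refine iSup_le fun l => ?_
  haveI : l.head.1.asIdeal.IsPrime := l.head.1.isPrime
  obtain ⟨p, hp, hple⟩ := Ideal.exists_minimalPrimes_le (hIJ.trans (show J ≤ l.head.1.asIdeal from l.head.2))
  let P : PrimeSpectrum.zeroLocus (I : Set R) := ⟨⟨p, hp.1.1⟩, hp.1.2⟩
  let l' : LTSeries (PrimeSpectrum.zeroLocus (I : Set R)) := l.map
    (fun y => ⟨y.1, fun a ha => y.2 (hIJ ha)⟩) fun _ _ h => h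
  have hlt : P < l'.head := by
    refine lt_of_le_of_ne (show p ≤ l.head.1.asIdeal from hple) fun h => hx p hp ?_
    have h' : p = l.head.1.asIdeal := congrArg (fun z => z.1.asIdeal) h
    rw [h']
    exact l.head.2 hxJ
  refine le_iSup_of_le (l'.cons P hlt) ?_
  simp [l']

/-- The lower bound, with a second ideal on the target. -/
theorem add_le_ringKrullDim_quotient {A B : Type u} [CommRing A] [CommRing B] [IsNoetherianRing A] [IsNoetherianRing B]
    [IsLocalRing A] [IsLocalRing B] [Algebra A B] [IsLocalHom (algebraMap A B)] (J : Ideal B) (hJ : J ≠ ⊤) :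
    ∀ (n : ℕ) (I : Ideal A), I ≠ ⊤ → ringKrullDim (A ⧸ I) = n →
    (∀ p : Ideal A, p.IsPrime → I ≤ p → p ≠ maximalIdeal A → ∀ q ∈ (p.map (algebraMap A B) ⊔ J).minimalPrimes,
        q.comap (algebraMap A B) ≠ maximalIdeal A) →
    (n : WithBot ℕ∞) + ringKrullDim (B ⧸ ((maximalIdeal A).map (algebraMap A B) ⊔ J)) ≤
      ringKrullDim (B ⧸ (I.map (algebraMap A B) ⊔ J)) := by
  intro n
  induction n with
  | zero =>
    intro I hI _ _
    rw [Nat.cast_zero, zero_add]
    have h : I.map (algebraMap A B) ⊔ J ≤ (maximalIdeal A).map (algebraMap A B) ⊔ J :=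
      sup_le_sup_right (Ideal.map_mono (le_maximalIdeal hI)) _
    exact ringKrullDim_le_of_surjective (Ideal.Quotient.factor h) (Ideal.Quotient.factor_surjective h)
  | succ n ih =>
    intro I hI hn hc
    classical
    have hmin : ∀ p ∈ I.minimalPrimes, p ≠ maximalIdeal A := by
      rintro p hp rfl
      have : ringKrullDim (A ⧸ I) ≤ 0 := by
        rw [ringKrullDim_quotient]
        refine iSup_le fun l => ?_
        by_contra h
        have hlen : 0 < l.length := by
          rcases Nat.eq_zero_or_pos l.length with h0 | h0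
          · exact absurd (by rw [h0]; rfl) h
          · exact h0
        have hlt := l.step ⟨0, hlen⟩
        set a := l (Fin.castSucc ⟨0, hlen⟩)
        set b := l (Fin.succ ⟨0, hlen⟩)
        have ha : maximalIdeal A ≤ a.1.asIdeal := hp.2 ⟨a.1.isPrime, a.2⟩ (le_maximalIdeal a.1.isPrime.ne_top)
        exact absurd (le_antisymm hlt.le (show b.1.asIdeal ≤ a.1.asIdeal from (le_maximalIdeal b.1.isPrime.ne_top).trans ha))
          hlt.ne
      rw [hn, ← Nat.cast_zero, Nat.cast_le] at this
      omega
    have hminB : ∀ q ∈ (I.map (algebraMap A B) ⊔ J).minimalPrimes, q.comap (algebraMap A B) ≠ maximalIdeal A := by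
      intro q hq
      haveI := hq.1.1
      obtain ⟨p, hp, hple⟩ := Ideal.exists_minimalPrimes_le
        (show I ≤ q.comap (algebraMap A B) from Ideal.map_le_iff_le_comap.1 (le_sup_left.trans hq.1.2))
      refine hc p hp.1.1 hp.1.2 (hmin p hp) q ⟨⟨hq.1.1, sup_le (Ideal.map_le_iff_le_comap.2 hple) (le_sup_right.trans hq.1.2)⟩,
        fun r hr hrq => hq.2 ⟨hr.1, (sup_le_sup_right (Ideal.map_mono hp.1.2) _).trans hr.2⟩ hrq⟩
    let T : Finset (Ideal A) := (Ideal.finite_minimalPrimes_of_isNoetherianRing A I).toFinset ∪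
      ((Ideal.finite_minimalPrimes_of_isNoetherianRing B (I.map (algebraMap A B) ⊔ J)).toFinset.image
        fun q => q.comap (algebraMap A B))
    have hT : ∀ p ∈ T, p.IsPrime ∧ p ≠ maximalIdeal A := by
      intro p hp
      rcases Finset.mem_union.1 hp with hp | hp
      · rw [Set.Finite.mem_toFinset] at hp; exact ⟨hp.1.1, hmin p hp⟩
      · obtain ⟨q, hq, rfl⟩ := Finset.mem_image.1 hp
        rw [Set.Finite.mem_toFinset] at hq
        haveI := hq.1.1
        exact ⟨inferInstance, hminB q hq⟩
    have hne : ¬ ((maximalIdeal A : Set A) ⊆ ⋃ p ∈ (T : Set (Ideal A)), (p : Set A)) := by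
      rw [Ideal.subset_union_prime ⊥ ⊥ fun p hp _ _ => (hT p hp).1]
      rintro ⟨p, hp, hle⟩
      exact (hT p hp).2 ((maximalIdeal.isMaximal A).eq_of_le (hT p hp).1.ne_top hle).symm
    obtain ⟨x, hxm, hx⟩ := Set.not_subset.1 hne
    simp only [Set.mem_iUnion, not_exists] at hx
    have hI' : I ⊔ Ideal.span {x} ≠ ⊤ := ne_top_of_le_ne_top (maximalIdeal.isMaximal A).ne_top
      (sup_le (le_maximalIdeal hI) ((Ideal.span_singleton_le_iff_mem _).2 hxm))
    obtain ⟨d, hd⟩ := GrothLib.HLVT.exists_nat_ringKrullDim_quotient hI'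
    have h1 := GrothLib.HLVT.ringKrullDim_quotient_le_sup_span_add_one hI hxm
    have hxI : ∀ p ∈ I.minimalPrimes, x ∉ p := fun p hp => hx p (Finset.mem_union_left _ ((Set.Finite.mem_toFinset _).2 hp))
    have h2 := ringKrullDim_quotient_add_one_le I (I ⊔ Ideal.span {x}) le_sup_left x
      (Ideal.mem_sup_right (Ideal.mem_span_singleton_self x)) hxI
    rw [hn, hd] at h1 h2; norm_cast at h1 h2
    obtain rfl : d = n := by omega
    refine le_trans ?_ (ringKrullDim_quotient_add_one_le (I.map (algebraMap A B) ⊔ J)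
      ((I ⊔ Ideal.span {x}).map (algebraMap A B) ⊔ J) (sup_le_sup_right (Ideal.map_mono le_sup_left) _)
      (algebraMap A B x) (Ideal.mem_sup_left (Ideal.mem_map_of_mem _ (Ideal.mem_sup_right (Ideal.mem_span_singleton_self x))))
      fun q hq hxq => hx (q.comap (algebraMap A B))
        (Finset.mem_union_right _ (Finset.mem_image.2 ⟨q, (Set.Finite.mem_toFinset _).2 hq, rfl⟩)) hxq)
    rw [Nat.cast_add, Nat.cast_one, add_right_comm]
    exact add_le_add (ih _ hI' hd fun p hp hle => hc p hp (le_sup_left.trans hle)) le_rfl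

/-- No component of the support of a flat module lies over a bigger prime than it should. -/
theorem comap_ne_maximalIdeal_of_flat {A B : Type u} [CommRing A] [CommRing B]
    [IsLocalRing A] [IsLocalRing B] [Algebra A B]
    (N : Type u) [AddCommGroup N] [Module B N] [Module A N] [IsScalarTower A B N] [Module.Finite B N] [Module.Flat A N]
    (p : Ideal A) [p.IsPrime] (hp : p ≠ maximalIdeal A) (q : Ideal B)
    (hq : q ∈ (p.map (algebraMap A B) ⊔ Module.annihilator B N).minimalPrimes) :
    q.comap (algebraMap A B) ≠ maximalIdeal A := by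
  intro hcq
  haveI := hq.1.1
  let Bq := Localization.AtPrime q
  let Nq := LocalizedModule q.primeCompl N
  haveI : Module.Flat A Nq := GrothLib.FlatModel.flat_localizedModule q.primeCompl
  haveI : Nontrivial Nq := by
    have h : (⟨q, inferInstance⟩ : PrimeSpectrum B) ∈ Module.support B N := by
      rw [Module.support_eq_zeroLocus, PrimeSpectrum.mem_zeroLocus]
      exact fun a ha => hq.1.2 (Ideal.mem_sup_right ha)
    exact Module.mem_support_iff.1 h
  let I := Module.annihilator Bq Nq
  have hI : I ≠ ⊤ := fun h => not_subsingleton Nq (Module.annihilator_eq_top_iff.1 h)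
  haveI : Nontrivial (Bq ⧸ I) := Ideal.Quotient.nontrivial_iff.2 hI
  haveI : IsLocalRing (Bq ⧸ I) := IsLocalRing.of_surjective' (Ideal.Quotient.mk I) Ideal.Quotient.mk_surjective
  letI : Module (Bq ⧸ I) Nq := Module.IsTorsionBySet.module (I := I) fun n a => Module.mem_annihilator.1 a.2 n
  haveI : IsScalarTower Bq (Bq ⧸ I) Nq := IsScalarTower.of_algebraMap_smul fun _ _ => rfl
  haveI : Module.Finite Bq Nq :=
    Module.Finite.of_isLocalizedModule q.primeCompl (LocalizedModule.mkLinearMap q.primeCompl N)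
  haveI : Module.Finite (Bq ⧸ I) Nq := Module.Finite.of_restrictScalars_finite Bq (Bq ⧸ I) Nq
  haveI : IsScalarTower A (Bq ⧸ I) Nq := IsScalarTower.of_algebraMap_smul fun a z => by
    show algebraMap A Bq a • z = a • z
    exact algebraMap_smul Bq a z
  haveI : IsLocalHom (algebraMap A (Bq ⧸ I)) := by
    refine ((local_hom_TFAE (algebraMap A (Bq ⧸ I))).out 0 4 rfl rfl).2 ?_
    rw [show algebraMap A (Bq ⧸ I) = ((Ideal.Quotient.mk I).comp (algebraMap B Bq)).comp (algebraMap A B) from rfl,
      ← Ideal.comap_comap, ← Ideal.comap_comap]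
    haveI : IsLocalHom (Ideal.Quotient.mk I) := IsLocalHom.of_surjective _ Ideal.Quotient.mk_surjective
    rw [((local_hom_TFAE (Ideal.Quotient.mk I)).out 0 4 rfl rfl).1 inferInstance]
    have e : (maximalIdeal Bq).comap (algebraMap B Bq) = q := Localization.AtPrime.under_maximalIdeal
    rw [e, hcq]
  obtain ⟨Q, hQ⟩ := GrothLib.QuasiFlat.comap_surjective_of_flat_module (A := A) (B := Bq ⧸ I) Nq ⟨p, inferInstance⟩
  haveI := Q.isPrime
  let Q₀ : Ideal B := Q.asIdeal.comap ((Ideal.Quotient.mk I).comp (algebraMap B Bq))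
  have hQp : Q₀.comap (algebraMap A B) = p := congrArg PrimeSpectrum.asIdeal hQ
  have hQq : Q₀ ≤ q := by
    have e : (maximalIdeal Bq).comap (algebraMap B Bq) = q := Localization.AtPrime.under_maximalIdeal
    rw [← e]
    exact Ideal.comap_mono (le_maximalIdeal (Ideal.IsPrime.comap (Ideal.Quotient.mk I) (K := Q.asIdeal)).ne_top)
  have hann : Module.annihilator B N ≤ Q₀ := by
    intro b hb
    have h0 : algebraMap B Bq b ∈ I := Module.mem_annihilator.2 fun z => by
      induction z using LocalizedModule.induction_on with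
      | _ m s => rw [algebraMap_smul, LocalizedModule.smul'_mk, Module.mem_annihilator.1 hb m, LocalizedModule.zero_mk]
    show Ideal.Quotient.mk I (algebraMap B Bq b) ∈ Q.asIdeal
    rw [Ideal.Quotient.eq_zero_iff_mem.2 h0]
    exact Q.asIdeal.zero_mem
  have := hq.2 ⟨inferInstance, sup_le (Ideal.map_le_iff_le_comap.2 hQp.ge) hann⟩ hQq
  rw [le_antisymm hQq this] at hQp
  exact hp (hQp.symm.trans hcq)

/-- The tensor product of two finite modules is supported on both supports. -/
theorem mem_support_tensor {B : Type u} [CommRing B] (N P : Type u) [AddCommGroup N] [Module B N] [Module.Finite B N]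
    [AddCommGroup P] [Module B P] [Module.Finite B P] (q : PrimeSpectrum B)
    (h1 : q ∈ Module.support B N) (h2 : q ∈ Module.support B P) : q ∈ Module.support B (N ⊗[B] P) := by
  rw [Module.mem_support_iff_nontrivial_residueField_tensorProduct] at h1 h2 ⊢
  have h : Nontrivial ((q.asIdeal.ResidueField ⊗[B] N) ⊗[q.asIdeal.ResidueField] (q.asIdeal.ResidueField ⊗[B] P)) :=
    inferInstance
  exact (TensorProduct.AlgebraTensorModule.distribBaseChange B q.asIdeal.ResidueField N P).toEquiv.nontrivial_congr.2 h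

end GrothLib.FibDimFormula
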